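import Mathlib

/-! Approximation for finitely many discrete valuation subrings. -/

namespace Groth.Agent.ValApproxLib

open Filter

universe u

variable {K : Type u} [Field K]

theorem dvr_eq_of_le (A B : ValuationSubring K) [IsDiscreteValuationRing A] [IsDiscreteValuationRing B] (h : A ≤ B) :
    A = B := by
  have hB := ValuationSubring.ofPrime_idealOfLE A B h
  by_cases hP : ValuationSubring.idealOfLE A B h = ⊥
  · exfalso
    refine IsDiscreteValuationRing.not_isField B ?_
    have htop : ∀ x : K, x ∈ B := fun x => by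
      obtain ⟨a, b, hb, rfl⟩ := IsFractionRing.div_surjective A x
      by_contra hx
      have hb0 : b ≠ 0 := nonZeroDivisors.ne_zero hb
      have : b ∉ ValuationSubring.idealOfLE A B h := by rw [hP]; exact hb0
      have hu : IsUnit (ValuationSubring.inclusion A B h b) := by
        by_contra hu
        exact this hu
      obtain ⟨c, hc⟩ := hu.exists_right_inv
      have hc' : (b : K) * (c : K) = 1 := congrArg Subtype.val hc
      apply hx
      rw [div_eq_mul_inv, show ((algebraMap A K b)⁻¹) = (c : K) from inv_eq_of_mul_eq_one_right hc']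
      exact B.mul_mem _ _ (h a.2) c.2
    refine ⟨⟨0, 1, zero_ne_one⟩, mul_comm, fun {x} hx => ?_⟩
    exact ⟨⟨(x : K)⁻¹, htop _⟩, Subtype.ext (mul_inv_cancel₀ fun h0 => hx (Subtype.ext h0))⟩
  · have hmax : (ValuationSubring.idealOfLE A B h).IsMaximal := by
      haveI : (ValuationSubring.idealOfLE A B h).IsPrime := inferInstance
      exact Ideal.IsPrime.isMaximal inferInstance hP
    refine le_antisymm h fun x hx => ?_
    rw [← hB] at hx
    obtain ⟨a, b, hb, rfl⟩ := hx
    have hbu : IsUnit b := by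
      by_contra hu
      exact hb ((IsLocalRing.eq_maximalIdeal hmax).symm ▸ hu)
    obtain ⟨c, hc⟩ := hbu.exists_right_inv
    have hc' : (b : K) * (c : K) = 1 := congrArg Subtype.val hc
    rw [show ((algebraMap A K b)⁻¹) = (c : K) from inv_eq_of_mul_eq_one_right hc']
    exact A.mul_mem _ _ a.2 c.2

theorem eventually_pow_mul_lt {A : ValuationSubring K} [IsDiscreteValuationRing A] {x : K}
    (hx : A.valuation x < 1) (c : K) : ∀ᶠ N : ℕ in atTop, A.valuation x ^ N * A.valuation c < 1 := by
  suffices ∃ N, A.valuation x ^ N * A.valuation c < 1 by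
    obtain ⟨N, hN⟩ := this
    refine eventually_atTop.mpr ⟨N, fun M hM => lt_of_le_of_lt ?_ hN⟩
    exact mul_le_mul_left (pow_le_pow_right_of_le_one' hx.le hM) _
  obtain ⟨π, hπ⟩ := IsDiscreteValuationRing.exists_irreducible A
  have hvπ : A.valuation (π : K) < 1 := (A.valuation_lt_one_iff π).mp (hπ.maximalIdeal_eq ▸ Ideal.mem_span_singleton_self π)
  let x' : A := ⟨x, (A.valuation_le_one_iff x).mp hx.le⟩
  obtain ⟨y, hy⟩ : π ∣ x' := by
    rw [← Ideal.mem_span_singleton, ← hπ.maximalIdeal_eq]
    exact (A.valuation_lt_one_iff x').mpr hx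
  have hxy : A.valuation x ≤ A.valuation (π : K) := by
    have : x = (π : K) * (y : K) := congrArg Subtype.val hy
    rw [this, map_mul]
    exact mul_le_of_le_one_right' (A.valuation_le_one y)
  obtain ⟨a, b, hb, rfl⟩ := IsFractionRing.div_surjective A c
  obtain ⟨m, hm⟩ := IsDiscreteValuationRing.associated_pow_irreducible (nonZeroDivisors.ne_zero hb) hπ
  obtain ⟨u, hu⟩ := hm
  refine ⟨m + 1, ?_⟩
  have hbv : A.valuation (b : K) = A.valuation (π : K) ^ m := by
    have h1 : (b : K) * ((u : A) : K) = (π : K) ^ m := congrArg Subtype.val hu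
    rw [← map_pow, ← h1, map_mul, (A.valuation_eq_one_iff _).mp u.isUnit, mul_one]
  have hb0 : A.valuation (b : K) ≠ 0 := by
    rw [ne_eq, map_eq_zero]
    exact fun h0 => nonZeroDivisors.ne_zero hb (Subtype.ext h0)
  show A.valuation x ^ (m + 1) * A.valuation ((a : K) / (b : K)) < 1
  rw [map_div₀, ← mul_div_assoc, div_lt_one₀ (zero_lt_iff.mpr hb0), hbv]
  calc A.valuation x ^ (m + 1) * A.valuation (a : K) ≤ A.valuation x ^ (m + 1) := mul_le_of_le_one_right' (A.valuation_le_one a)
    _ ≤ A.valuation (π : K) ^ (m + 1) := pow_le_pow_left' hxy _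
    _ = A.valuation (π : K) ^ m * A.valuation (π : K) := pow_succ _ _
    _ < A.valuation (π : K) ^ m := mul_lt_of_lt_one_right (zero_lt_iff.mpr (hbv ▸ hb0)) hvπ

theorem valuation_one_add_pow {A : ValuationSubring K} {z : K} (hz : 1 < A.valuation z) {N : ℕ} (hN : N ≠ 0) :
    A.valuation (1 + z ^ N) = A.valuation z ^ N := by
  rw [Valuation.map_add_eq_of_lt_right, map_pow]
  rw [map_one, map_pow]
  exact one_lt_pow₀ hz hN

theorem valuation_one_add_pow' {A : ValuationSubring K} {z : K} (hz : A.valuation z < 1) {N : ℕ} (hN : N ≠ 0) :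
    A.valuation (1 + z ^ N) = 1 := by
  rw [Valuation.map_add_eq_of_lt_left, map_one]
  rw [map_one, map_pow]
  exact pow_lt_one₀ zero_le' hz hN

variable {r : ℕ} (O : Fin r → ValuationSubring K) [∀ i, IsDiscreteValuationRing (O i)]

theorem exists_pair {i j : Fin r} (hinj : Function.Injective O) (hij : i ≠ j) :
    ∃ z : K, 1 < (O i).valuation z ∧ (O j).valuation z < 1 := by
  obtain ⟨a, hai, haj⟩ := SetLike.not_le_iff_exists.mp fun h => hij (hinj (dvr_eq_of_le (O i) (O j) h))
  obtain ⟨b, hbj, hbi⟩ := SetLike.not_le_iff_exists.mp fun h => hij.symm (hinj (dvr_eq_of_le (O j) (O i) h))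
  rw [← ValuationSubring.valuation_le_one_iff, not_le] at haj hbi
  have h1 := ((O i).valuation_le_one_iff a).mpr hai
  have h2 := ((O j).valuation_le_one_iff b).mpr hbj
  have ha0 : (O i).valuation a ≠ 0 := by
    rw [ne_eq, map_eq_zero]; rintro rfl; simp at haj
  refine ⟨b / a, ?_, ?_⟩
  · rw [map_div₀, one_lt_div₀ (zero_lt_iff.mpr ha0)]
    exact lt_of_le_of_lt h1 hbi
  · rw [map_div₀, div_lt_one₀ (zero_lt_one.trans haj)]
    exact lt_of_le_of_lt h2 haj

theorem exists_separating (hinj : Function.Injective O) (i : Fin r) (s : Finset (Fin r)) (hs : i ∉ s) :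
    ∃ z : K, 1 < (O i).valuation z ∧ ∀ j ∈ s, (O j).valuation z < 1 := by
  classical
  induction s using Finset.induction_on with
  | empty =>
    obtain ⟨π, hπ⟩ := IsDiscreteValuationRing.exists_irreducible (O i)
    refine ⟨(π : K)⁻¹, ?_, by simp⟩
    rw [map_inv₀, one_lt_inv₀ (zero_lt_iff.mpr (by rw [ne_eq, map_eq_zero]; exact fun h0 => hπ.ne_zero (Subtype.ext h0)))]
    exact ((O i).valuation_lt_one_iff π).mp (hπ.maximalIdeal_eq ▸ Ideal.mem_span_singleton_self π)
  | insert j s hj ih =>
    obtain ⟨z, hzi, hzs⟩ := ih fun h => hs (Finset.mem_insert_of_mem h)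
    obtain ⟨w, hwi, hwj⟩ := exists_pair O hinj (i := i) (j := j) fun h => hs (h ▸ Finset.mem_insert_self _ _)
    rcases lt_trichotomy ((O j).valuation z) 1 with h | h | h
    · exact ⟨z, hzi, fun k hk => (Finset.mem_insert.mp hk).elim (fun e => e ▸ h) (hzs k)⟩
    · have hev : ∀ᶠ N : ℕ in atTop, ∀ k ∈ s, (O k).valuation z ^ N * (O k).valuation w < 1 :=
        (Finset.eventually_all s).mpr fun k hk => eventually_pow_mul_lt (hzs k hk) w
      obtain ⟨N, hN⟩ := hev.exists
      refine ⟨z ^ N * w, ?_, fun k hk => ?_⟩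
      · rw [map_mul, map_pow]; exact one_lt_mul (one_le_pow₀ hzi.le) hwi
      · rcases Finset.mem_insert.mp hk with rfl | hk
        · rw [map_mul, map_pow, h, one_pow, one_mul]; exact hwj
        · rw [map_mul, map_pow]; exact hN k hk
    · have hev : ∀ᶠ N : ℕ in atTop, N ≠ 0 ∧ ∀ k ∈ s, (O k).valuation z ^ N * (O k).valuation w < 1 :=
        (eventually_ne_atTop 0).and ((Finset.eventually_all s).mpr fun k hk => eventually_pow_mul_lt (hzs k hk) w)
      obtain ⟨N, hN0, hN⟩ := hev.exists
      refine ⟨z ^ N / (1 + z ^ N) * w, ?_, fun k hk => ?_⟩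
      · rw [map_mul, map_div₀, map_pow, valuation_one_add_pow hzi hN0, div_self (pow_ne_zero _ (zero_lt_one.trans hzi).ne'), one_mul]
        exact hwi
      · rcases Finset.mem_insert.mp hk with rfl | hk
        · rw [map_mul, map_div₀, map_pow, valuation_one_add_pow h hN0, div_self (pow_ne_zero _ (zero_lt_one.trans h).ne'), one_mul]
          exact hwj
        · rw [map_mul, map_div₀, map_pow, valuation_one_add_pow' (hzs k hk) hN0, div_one]
          exact hN k hk

theorem exists_approx (hinj : Function.Injective O) (t g : Fin r → K) (hg : ∀ k, g k ≠ 0) :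
    ∃ f : K, ∀ k, (O k).valuation (f - t k) < (O k).valuation (g k) := by
  classical
  choose z hz hz' using fun i => exists_separating O hinj i (Finset.univ.erase i) (Finset.notMem_erase i _)
  have hev : ∀ᶠ N : ℕ in atTop, N ≠ 0 ∧ ∀ i k, (O k).valuation (if i = k then (z i)⁻¹ else z i) ^ N * (O k).valuation (t i / g k) < 1 := by
    refine (eventually_ne_atTop 0).and (eventually_all.mpr fun i => eventually_all.mpr fun k => eventually_pow_mul_lt ?_ _)
    split_ifs with h
    · subst h; rw [map_inv₀]; exact inv_lt_one_of_one_lt₀ (hz i)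
    · exact hz' i k (Finset.mem_erase.mpr ⟨fun e => h e.symm, Finset.mem_univ k⟩)
  obtain ⟨N, hN0, hN⟩ := hev.exists
  refine ⟨∑ i, t i * (z i ^ N / (1 + z i ^ N)), fun k => ?_⟩
  have hval : ∀ i, (O k).valuation (t i * (z i ^ N / (1 + z i ^ N) - if i = k then 1 else 0)) < (O k).valuation (g k) := fun i => by
    have hne : (O k).valuation (g k) ≠ 0 := by rw [ne_eq, map_eq_zero]; exact hg k
    have h1 := hN i k
    rw [map_div₀, ← mul_div_assoc, div_lt_one₀ (zero_lt_iff.mpr hne)] at h1
    refine lt_of_eq_of_lt ?_ h1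
    rw [map_mul, mul_comm]
    congr 1
    by_cases h : i = k
    · subst h
      rw [if_pos rfl, if_pos rfl]
      have hne1 : (1 : K) + z i ^ N ≠ 0 := fun h0 => by
        have := valuation_one_add_pow (hz i) hN0
        rw [h0, map_zero] at this
        exact (pow_ne_zero _ (zero_lt_one.trans (hz i)).ne') this.symm
      rw [div_sub_one hne1, show z i ^ N - (1 + z i ^ N) = -1 by ring, map_div₀, Valuation.map_neg, map_one,
        valuation_one_add_pow (hz i) hN0, map_inv₀, inv_pow, one_div]
    · rw [if_neg h, if_neg h, sub_zero, map_div₀, map_pow,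
        valuation_one_add_pow' (hz' i k (Finset.mem_erase.mpr ⟨fun e => h e.symm, Finset.mem_univ k⟩)) hN0, div_one]
  have hsum : ∑ i, t i * (z i ^ N / (1 + z i ^ N)) - t k = ∑ i, t i * (z i ^ N / (1 + z i ^ N) - if i = k then 1 else 0) := by
    simp [mul_sub, Finset.sum_sub_distrib]
  rw [hsum]
  exact Valuation.map_sum_lt _ (by rw [ne_eq, map_eq_zero]; exact hg k) fun i _ => hval i

end Groth.Agent.ValApproxLib
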